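import Cfsg.Agent.Lib.Spor.UnitarySix.Data
import Cfsg.Agent.Lib.Classical.UnitaryGen
import Cfsg.Prelude.Def_Classical

/-!
The 891 planes of the unitary space of dimension 6 over four elements and the matrices of the
generators.
-/

set_option autoImplicit false
set_option Elab.async false
set_option maxRecDepth 100000
set_option maxHeartbeats 0

namespace CfsgLib.Spor.UnitarySix

open Matrix

/-! ### Codes of field elements and vectors -/

/-- an element of the field of four elements from two bits -/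
def mk4 (p q : Bool) : ℕ := (if p then 1 else 0) + (if q then 2 else 0)

/-- product of coded field elements -/
def mul4 (a b : ℕ) : ℕ :=
  mk4 (xor (a.testBit 0 && b.testBit 0) (a.testBit 1 && b.testBit 1))
    (xor (xor (a.testBit 0 && b.testBit 1) (a.testBit 1 && b.testBit 0)) (a.testBit 1 && b.testBit 1))

/-- coordinate of a coded vector -/
def get6 (v i : ℕ) : ℕ := mk4 (v.testBit i) (v.testBit (6 + i))

/-- multiplication of a coded vector by the primitive element -/
def omegaV (v : ℕ) : ℕ := (v >>> 6) ||| (((v &&& 63) ^^^ (v >>> 6)) <<< 6)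

/-- multiplication of a coded vector by a coded field element -/
def scaleV (c v : ℕ) : ℕ :=
  (if c.testBit 0 then v else 0) ^^^ (if c.testBit 1 then omegaV v else 0)

/-- value of a coded field element -/
def f4 {F : Type*} [Field F] (ω : F) (a : ℕ) : F :=
  (if a.testBit 0 then 1 else 0) + (if a.testBit 1 then ω else 0)

/-- value of a coded vector -/
def vecF {F : Type*} [Field F] (ω : F) (v : ℕ) : Fin 6 → F := fun i => f4 ω (get6 v i)

/-- the primitive element of the field of four elements -/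
structure Four (F : Type*) [Field F] (ω : F) : Prop where
  two : (2 : F) = 0
  root : ω * ω = ω + 1
  card : Nat.card F = 2 ^ 2

variable {F : Type*} [Field F] {ω : F}

theorem testBit_mk4 : ∀ p q : Bool, (mk4 p q).testBit 0 = p ∧ (mk4 p q).testBit 1 = q := by
  decide

theorem f4_mk4 (p q : Bool) : f4 ω (mk4 p q) = (if p then 1 else 0) + (if q then ω else 0) := by
  rw [f4, (testBit_mk4 p q).1, (testBit_mk4 p q).2]

theorem Four.add_self (h : Four F ω) (x : F) : x + x = 0 := by
  rw [← two_mul, h.two, zero_mul]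

theorem f4_mul (h : Four F ω) (a b : ℕ) : f4 ω (mul4 a b) = f4 ω a * f4 ω b := by
  rw [mul4, f4_mk4, f4, f4]
  have h1 := h.two
  have h2 := h.root
  cases a.testBit 0 <;> cases a.testBit 1 <;> cases b.testBit 0 <;> cases b.testBit 1 <;>
    simp <;> grind

theorem f4_xor (h : Four F ω) (a b : ℕ) : f4 ω (a ^^^ b) = f4 ω a + f4 ω b := by
  rw [f4, f4, f4, Nat.testBit_xor, Nat.testBit_xor]
  have h1 := h.two
  cases a.testBit 0 <;> cases a.testBit 1 <;> cases b.testBit 0 <;> cases b.testBit 1 <;>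
    simp <;> grind

theorem f4_zero : f4 ω 0 = 0 := by simp [f4]

theorem f4_one : f4 ω 1 = 1 := by simp [f4, Nat.testBit, Nat.shiftRight_eq_div_pow]

theorem get6_xor (u v i : ℕ) : get6 (u ^^^ v) i = get6 u i ^^^ get6 v i := by
  simp only [get6, Nat.testBit_xor]
  cases u.testBit i <;> cases v.testBit i <;> cases u.testBit (6 + i) <;> cases v.testBit (6 + i) <;>
    rfl

theorem vecF_xor (h : Four F ω) (u v : ℕ) : vecF ω (u ^^^ v) = vecF ω u + vecF ω v := by
  funext i
  simp only [vecF, Pi.add_apply, get6_xor, f4_xor h]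

theorem vecF_zero : vecF ω 0 = 0 := by
  funext i
  simp [vecF, get6, mk4, f4]

theorem omegaV_check : ((List.range 4096).all fun v => Nat.blt (omegaV v) 4096 &&
    (List.range 6).all fun i => Nat.beq (get6 (omegaV v) i) (mul4 2 (get6 v i))) = true := by
  decide +kernel

theorem omegaV_spec {v : ℕ} (hv : v < 4096) :
    omegaV v < 4096 ∧ ∀ i < 6, get6 (omegaV v) i = mul4 2 (get6 v i) := by
  have h := List.all_eq_true.1 omegaV_check v (List.mem_range.2 hv)
  simp only [Bool.and_eq_true, Nat.blt_eq, List.all_eq_true, List.mem_range, Nat.beq_eq] at h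
  exact h

theorem vecF_omegaV (h : Four F ω) {v : ℕ} (hv : v < 4096) :
    vecF ω (omegaV v) = ω • vecF ω v := by
  funext i
  rw [Pi.smul_apply, smul_eq_mul, vecF, vecF, (omegaV_spec hv).2 i i.2, f4_mul h]
  congr 1
  simp [f4, Nat.testBit, Nat.shiftRight_eq_div_pow]

theorem scaleV_lt (c : ℕ) {v : ℕ} (hv : v < 4096) : scaleV c v < 4096 := by
  rw [scaleV]
  refine Nat.xor_lt_two_pow (n := 12) ?_ ?_
  · split
    · exact hv
    · norm_num
  · split
    · exact (omegaV_spec hv).1
    · norm_num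

theorem vecF_scaleV (h : Four F ω) (c : ℕ) {v : ℕ} (hv : v < 4096) :
    vecF ω (scaleV c v) = f4 ω c • vecF ω v := by
  rw [scaleV, vecF_xor h, f4, add_smul]
  congr 1
  · split <;> simp [vecF_zero]
  · split <;> simp [vecF_zero, vecF_omegaV h hv]

theorem vecF_injective (hf : ∀ a b : ℕ, a < 4 → b < 4 → f4 ω a = f4 ω b → a = b) {u v : ℕ}
    (hu : u < 4096) (hv : v < 4096) (e : vecF ω u = vecF ω v) : u = v := by
  have hget : ∀ i < 6, get6 u i = get6 v i := fun i hi =>
    hf _ _ (by rw [get6, mk4]; split <;> split <;> norm_num)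
      (by rw [get6, mk4]; split <;> split <;> norm_num) (congrFun e ⟨i, hi⟩)
  refine Nat.eq_of_testBit_eq fun i => ?_
  by_cases h12 : i < 12
  · by_cases h6 : i < 6
    · have h := congrArg (fun x => Nat.testBit x 0) (hget i h6)
      simpa only [get6, (testBit_mk4 _ _).1] using h
    · have h := congrArg (fun x => Nat.testBit x 1) (hget (i - 6) (by omega))
      simp only [get6, (testBit_mk4 _ _).2] at h
      rwa [show 6 + (i - 6) = i by omega] at h
  · have hp : 4096 ≤ 2 ^ i := le_trans (by norm_num)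
      (Nat.pow_le_pow_right (by norm_num : 0 < 2) (le_of_not_gt h12))
    rw [Nat.testBit_lt_two_pow (lt_of_lt_of_le hu hp), Nat.testBit_lt_two_pow (lt_of_lt_of_le hv hp)]

theorem f4_inj (h : Four F ω) (a b : ℕ) (ha : a < 4) (hb : b < 4) (e : f4 ω a = f4 ω b) : a = b := by
  have hω0 : ω ≠ 0 := fun h0 => by simpa [h0] using h.root
  have hω1 : ω ≠ 1 := fun h1 => by
    have := h.root
    rw [h1, h.add_self, mul_one] at this
    exact one_ne_zero this
  have hω2 : 1 + ω ≠ 0 := fun e => by
    have := h.root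
    rw [add_comm ω 1, e] at this
    exact hω0 (mul_self_eq_zero.1 this)
  interval_cases a <;> interval_cases b <;>
    simp [f4, Nat.testBit, Nat.shiftRight_eq_div_pow, hω0, hω1, hω2, Ne.symm hω0, Ne.symm hω1,
      Ne.symm hω2] at e ⊢

theorem exists_f4 (h : Four F ω) (x : F) : ∃ a < 4, f4 ω a = x := by
  haveI : Finite F := Nat.finite_of_card_ne_zero (by rw [h.card]; norm_num)
  have hb : Function.Bijective fun a : Fin 4 => f4 ω a.val :=
    Function.Injective.bijective_of_nat_card_le
      (fun a b e => Fin.ext (f4_inj h _ _ a.2 b.2 e)) (by rw [h.card, Nat.card_fin]; norm_num)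
  obtain ⟨a, rfl⟩ := hb.2 x
  exact ⟨a, a.2, rfl⟩

/-! ### Matrices -/

/-- a column -/
def colAt (cols : List ℕ) (i : ℕ) : ℕ := cols.getD i 0

/-- a matrix applied to a coded vector -/
def applyV (cols : List ℕ) (v : ℕ) : ℕ :=
  scaleV (get6 v 0) (colAt cols 0) ^^^ scaleV (get6 v 1) (colAt cols 1) ^^^
    scaleV (get6 v 2) (colAt cols 2) ^^^ scaleV (get6 v 3) (colAt cols 3) ^^^
    scaleV (get6 v 4) (colAt cols 4) ^^^ scaleV (get6 v 5) (colAt cols 5)

/-- the matrix with the given columns -/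
def matF (ω : F) (cols : List ℕ) : Matrix (Fin 6) (Fin 6) F :=
  Matrix.of fun i j => f4 ω (get6 (colAt cols j) i)

theorem vecF_applyV (h : Four F ω) {cols : List ℕ} (hc : ∀ i < 6, colAt cols i < 4096) (v : ℕ) :
    vecF ω (applyV cols v) = matF ω cols *ᵥ vecF ω v := by
  funext i
  have e : ∀ k : ℕ, k < 6 → vecF ω (scaleV (get6 v k) (colAt cols k)) i =
      f4 ω (get6 (colAt cols k) i) * f4 ω (get6 v k) := fun k hk => by
    rw [vecF_scaleV h _ (hc k hk), Pi.smul_apply, smul_eq_mul, vecF, mul_comm]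
  simp only [applyV, vecF_xor h, Pi.add_apply, e 0 (by norm_num), e 1 (by norm_num),
    e 2 (by norm_num), e 3 (by norm_num), e 4 (by norm_num), e 5 (by norm_num)]
  rw [Matrix.mulVec, dotProduct, Fin.sum_univ_six]
  rfl

/-- the Hermitian product of coded vectors -/
def hermN (u v : ℕ) : ℕ :=
  mul4 (get6 u 0) (mul4 (get6 v 0) (get6 v 0)) ^^^ mul4 (get6 u 1) (mul4 (get6 v 1) (get6 v 1)) ^^^
  mul4 (get6 u 2) (mul4 (get6 v 2) (get6 v 2)) ^^^ mul4 (get6 u 3) (mul4 (get6 v 3) (get6 v 3)) ^^^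
  mul4 (get6 u 4) (mul4 (get6 v 4) (get6 v 4)) ^^^ mul4 (get6 u 5) (mul4 (get6 v 5) (get6 v 5))

/-- determinant on coded entries -/
def detN : ℕ → (ℕ → ℕ → ℕ) → ℕ
  | 0, _ => 1
  | n + 1, M => (List.range (n + 1)).foldr
      (fun j acc => mul4 (M 0 j) (detN n fun r c => M (r + 1) (if c < j then c else c + 1)) ^^^ acc) 0

theorem f4_foldr (h : Four F ω) (g : ℕ → ℕ) : ∀ l : List ℕ,
    f4 ω (l.foldr (fun j acc => g j ^^^ acc) 0) = (l.map fun j => f4 ω (g j)).sum
  | [] => by simp [f4_zero]
  | a :: l => by simp [f4_xor h, f4_foldr h g l]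

theorem f4_detN (h : Four F ω) : ∀ (n : ℕ) (M : ℕ → ℕ → ℕ),
    f4 ω (detN n M) = (Matrix.of fun i j : Fin n => f4 ω (M i j)).det
  | 0, M => by simp [detN, f4_one]
  | n + 1, M => by
    have hneg : (-1 : F) = 1 := neg_eq_of_add_eq_zero_left (h.add_self 1)
    rw [detN, f4_foldr h, Matrix.det_succ_row_zero, ← List.sum_toFinset _ List.nodup_range,
      List.toFinset_range, Finset.sum_range]
    refine Finset.sum_congr rfl fun j _ => ?_
    rw [f4_mul h, f4_detN h n, hneg, one_pow, one_mul]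
    congr 2
    ext r c
    simp only [Matrix.of_apply, Matrix.submatrix_apply, Fin.val_succ]
    congr 2
    by_cases hc : (c : ℕ) < (j : ℕ)
    · rw [if_pos hc, Fin.succAbove_of_castSucc_lt _ _ (by exact hc)]; rfl
    · rw [if_neg hc, Fin.succAbove_of_le_castSucc _ _ (by simpa [Fin.le_def] using Nat.le_of_not_lt hc)]
      rfl

theorem mats_check : (mats.all fun cols => decide (cols.length = 6) &&
    ((List.range 6).all fun i => Nat.blt (colAt cols i) 4096 && (List.range 6).all fun j =>
      Nat.beq (hermN (colAt cols i) (colAt cols j)) (if i = j then 1 else 0)) &&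
    Nat.beq (detN 6 fun i j => get6 (colAt cols j) i) 1) = true := by
  decide +kernel

theorem Four.charTwo (h : Four F ω) : CharP F 2 :=
  CharTwo.of_one_ne_zero_of_two_eq_zero one_ne_zero h.two

theorem hermForm_mulVec_two (h : Four F ω) (A : Matrix (Fin 6) (Fin 6) F) (u v : Fin 6 → F) :
    Cfsg.hermForm 6 F 2 (A *ᵥ u) (A *ᵥ v) =
      u ⬝ᵥ ((A.transpose * A.map (fun x => x * x)) *ᵥ fun i => v i ^ 2) := by
  haveI := h.charTwo
  rw [← Matrix.mulVec_mulVec, Matrix.dotProduct_mulVec, Matrix.vecMul_transpose]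
  show ∑ i, (A *ᵥ u) i * (A *ᵥ v) i ^ 2 = ∑ i, _
  refine Finset.sum_congr rfl fun i _ => ?_
  congr 1
  show (∑ j, A i j * v j) ^ 2 = ∑ j, (A i j * A i j) * v j ^ 2
  rw [CharTwo.sum_sq]
  exact Finset.sum_congr rfl fun j _ => by ring

/-- Each listed matrix gives an element of `SU₆(2)`. -/
theorem exists_su (h : Four F ω) {cols : List ℕ} (hc : cols ∈ mats) :
    ∃ A : Cfsg.SU 6 F 2, ((A.1 : Matrix.SpecialLinearGroup (Fin 6) F) : Matrix (Fin 6) (Fin 6) F) =
      matF ω cols := by
  have hk := List.all_eq_true.1 mats_check cols hc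
  simp only [Bool.and_eq_true, decide_eq_true_eq, List.all_eq_true, List.mem_range, Nat.beq_eq] at hk
  obtain ⟨⟨-, hcol⟩, hdet⟩ := hk
  have hd : (matF ω cols).det = 1 := by
    rw [show matF ω cols = Matrix.of fun i j : Fin 6 => f4 ω (get6 (colAt cols j) i) from rfl,
      ← f4_detN h 6 (fun i j => get6 (colAt cols j) i), hdet, f4_one]
  have horth : (matF ω cols).transpose * (matF ω cols).map (fun x => x * x) = 1 := by
    ext i j
    have e := congrArg (f4 ω) ((hcol i i.2).2 j j.2)
    simp only [hermN, f4_xor h, f4_mul h] at e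
    rw [Matrix.mul_apply, Fin.sum_univ_six, Matrix.one_apply]
    refine e.trans ?_
    by_cases hij : i = j
    · rw [if_pos hij, if_pos (congrArg Fin.val hij), f4_one]
    · rw [if_neg hij, if_neg (fun e => hij (Fin.ext e)), f4_zero]
  refine ⟨⟨⟨matF ω cols, hd⟩, fun u v => ?_⟩, rfl⟩
  show Cfsg.hermForm 6 F 2 (matF ω cols *ᵥ u) (matF ω cols *ᵥ v) = _
  rw [hermForm_mulVec_two h, horth, Matrix.one_mulVec]
  rfl

/-! ### Planes -/

/-- the packed data of a plane -/
def planeAt (j : ℕ) : ℕ := (planesN >>> (45 * j)) &&& (2 ^ 45 - 1)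

/-- a row of a plane -/
def rowP (j k : ℕ) : ℕ := (planeAt j >>> (12 * k)) &&& 4095

/-- a pivot of a plane -/
def pivP (j k : ℕ) : ℕ := (planeAt j >>> (36 + 3 * k)) &&& 7

/-- a combination of the rows -/
def combP (j a b c : ℕ) : ℕ :=
  scaleV a (rowP j 0) ^^^ scaleV b (rowP j 1) ^^^ scaleV c (rowP j 2)

/-- membership in a plane -/
def inP (j v : ℕ) : Bool :=
  Nat.beq v (combP j (get6 v (pivP j 0)) (get6 v (pivP j 1)) (get6 v (pivP j 2)))

theorem planes_check : ((List.range 891).all fun j => (List.range 3).all fun k =>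
    Nat.blt (pivP j k) 6 && (List.range 3).all fun l =>
      Nat.beq (get6 (rowP j k) (pivP j l)) (if k = l then 1 else 0)) = true := by
  decide +kernel

theorem rowP_lt (j k : ℕ) : rowP j k < 4096 :=
  lt_of_le_of_lt Nat.and_le_right (by norm_num)

/-- the plane -/
def plane (ω : F) (j : ℕ) : Submodule F (Fin 6 → F) :=
  Submodule.span F (Set.range fun k : Fin 3 => vecF ω (rowP j k))

theorem vecF_combP (h : Four F ω) (j a b c : ℕ) :
    vecF ω (combP j a b c) = f4 ω a • vecF ω (rowP j 0) + f4 ω b • vecF ω (rowP j 1) +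
      f4 ω c • vecF ω (rowP j 2) := by
  rw [combP, vecF_xor h, vecF_xor h, vecF_scaleV h _ (rowP_lt j 0), vecF_scaleV h _ (rowP_lt j 1),
    vecF_scaleV h _ (rowP_lt j 2)]

theorem mem_plane_iff (h : Four F ω) (j : ℕ) (x : Fin 6 → F) :
    x ∈ plane ω j ↔ ∃ a < 4, ∃ b < 4, ∃ c < 4, vecF ω (combP j a b c) = x := by
  rw [plane, Submodule.mem_span_range_iff_exists_fun]
  constructor
  · rintro ⟨f, rfl⟩
    obtain ⟨a, ha, e0⟩ := exists_f4 h (f 0)
    obtain ⟨b, hb, e1⟩ := exists_f4 h (f 1)
    obtain ⟨c, hc, e2⟩ := exists_f4 h (f 2)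
    refine ⟨a, ha, b, hb, c, hc, ?_⟩
    rw [vecF_combP h, e0, e1, e2, Fin.sum_univ_three]
    rfl
  · rintro ⟨a, -, b, -, c, -, rfl⟩
    refine ⟨![f4 ω a, f4 ω b, f4 ω c], ?_⟩
    rw [vecF_combP h, Fin.sum_univ_three]
    rfl

theorem mem_plane_of_inP (h : Four F ω) {j v : ℕ} (hv : inP j v = true) :
    vecF ω v ∈ plane ω j := by
  rw [inP, Nat.beq_eq] at hv
  rw [hv, mem_plane_iff h]
  have hlt : ∀ i, get6 v i < 4 := fun i => by rw [get6, mk4]; split <;> split <;> norm_num
  exact ⟨_, hlt _, _, hlt _, _, hlt _, rfl⟩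

theorem combP_lt (j a b c : ℕ) : combP j a b c < 4096 :=
  Nat.xor_lt_two_pow (n := 12) (Nat.xor_lt_two_pow (n := 12) (scaleV_lt _ (rowP_lt j 0))
    (scaleV_lt _ (rowP_lt j 1))) (scaleV_lt _ (rowP_lt j 2))

theorem rows_li (h : Four F ω) {j : ℕ} (hj : j < 891) :
    LinearIndependent F fun k : Fin 3 => vecF ω (rowP j k) := by
  have hc := List.all_eq_true.1 planes_check j (List.mem_range.2 hj)
  simp only [List.all_eq_true, List.mem_range, Bool.and_eq_true, Nat.beq_eq, Nat.blt_eq] at hc
  rw [Fintype.linearIndependent_iff]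
  intro g hg l
  have e := congrFun hg ⟨pivP j l, (hc l l.2).1⟩
  simp only [Finset.sum_apply, Pi.smul_apply, smul_eq_mul, Pi.zero_apply, vecF] at e
  rw [Finset.sum_eq_single l] at e
  · rw [(hc l l.2).2 l l.2, if_pos rfl, f4_one, mul_one] at e
    exact e
  · intro k _ hk
    rw [(hc k k.2).2 l l.2, if_neg (fun e => hk (Fin.ext e)), f4_zero, mul_zero]
  · exact fun h => absurd (Finset.mem_univ l) h

theorem finrank_plane (h : Four F ω) {j : ℕ} (hj : j < 891) :
    Module.finrank F (plane ω j) = 3 := by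
  rw [plane, finrank_span_eq_card (rows_li h hj), Fintype.card_fin]

/-- the linear map of an element of `SU₆(2)` -/
def linOf (A : Cfsg.SU 6 F 2) : (Fin 6 → F) →ₗ[F] Fin 6 → F :=
  Matrix.mulVecLin ((A.1 : Matrix.SpecialLinearGroup (Fin 6) F) : Matrix (Fin 6) (Fin 6) F)

theorem linOf_one : linOf (1 : Cfsg.SU 6 F 2) = LinearMap.id := by
  refine LinearMap.ext fun x => ?_
  simp [linOf]

theorem linOf_mul (A B : Cfsg.SU 6 F 2) : linOf (A * B) = (linOf A).comp (linOf B) := by
  refine LinearMap.ext fun x => ?_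
  simp [linOf, Matrix.mulVec_mulVec]

theorem linOf_injective_map (A : Cfsg.SU 6 F 2) : Function.Injective (linOf A) := by
  refine Function.LeftInverse.injective (g := linOf A⁻¹) fun x => ?_
  rw [← LinearMap.comp_apply, ← linOf_mul, inv_mul_cancel, linOf_one]
  rfl

/-- A matrix sending the rows of a plane into another maps the plane onto it. -/
theorem map_plane (h : Four F ω) {cols : List ℕ} (hc : cols ∈ mats) {A : Cfsg.SU 6 F 2}
    (hA : ((A.1 : Matrix.SpecialLinearGroup (Fin 6) F) : Matrix (Fin 6) (Fin 6) F) = matF ω cols)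
    {i j : ℕ} (hi : i < 891) (hj : j < 891)
    (hin : ∀ k < 3, inP j (applyV cols (rowP i k)) = true) :
    (plane ω i).map (linOf A) = plane ω j := by
  have hk := List.all_eq_true.1 mats_check cols hc
  simp only [Bool.and_eq_true, List.all_eq_true, List.mem_range, Nat.blt_eq] at hk
  have hle : (plane ω i).map (linOf A) ≤ plane ω j := by
    rw [Submodule.map_le_iff_le_comap, plane, Submodule.span_le]
    rintro _ ⟨k, rfl⟩
    show linOf A (vecF ω (rowP i k)) ∈ plane ω j
    rw [linOf, Matrix.mulVecLin_apply, hA, ← vecF_applyV h (fun t ht => (hk.1.2 t ht).1)]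
    exact mem_plane_of_inP h (hin k k.2)
  refine Submodule.eq_of_le_of_finrank_eq hle ?_
  rw [finrank_plane h hj, ← (Submodule.equivMapOfInjective _ (linOf_injective_map A) _).finrank_eq,
    finrank_plane h hi]

/-! ### Only scalars fix all planes -/

/-- the coded vector `eᵢ + c eⱼ` -/
def eVec (i j c : ℕ) : ℕ := (1 <<< i) ||| scaleV c (1 <<< j)

theorem eVec_check : ∀ i j : Fin 6, i ≠ j → ∀ c ∈ [1, 2], eVec i j c < 4096 ∧ ∀ t : Fin 6,
    get6 (eVec i j c) t = if t = i then 1 else if t = j then c else 0 := by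
  decide +kernel

theorem frame_complete : ∀ i j : Fin 6, i ≠ j → ∀ c ∈ [1, 2],
    (frameTab.any fun e => Nat.beq e.1 i && Nat.beq e.2.1 j && Nat.beq e.2.2.1 c) = true := by
  decide +kernel

theorem frame_check : (frameTab.all fun e =>
    let v := eVec e.1 e.2.1 e.2.2.1
    Nat.blt e.2.2.2.1 891 && Nat.blt e.2.2.2.2 891 && inP e.2.2.2.1 v && inP e.2.2.2.2 v &&
    (List.range 4).all fun a => (List.range 4).all fun b => (List.range 4).all fun c =>
      let x := combP e.2.2.2.1 a b c
      !inP e.2.2.2.2 x || (List.range 4).any fun d => Nat.beq x (scaleV d v)) = true := by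
  decide +kernel

theorem inP_of_mem_plane (h : Four F ω) {j v : ℕ} (hj : j < 891) (hv : v < 4096)
    (hm : vecF ω v ∈ plane ω j) : inP j v = true := by
  have hc := List.all_eq_true.1 planes_check j (List.mem_range.2 hj)
  simp only [List.all_eq_true, List.mem_range, Bool.and_eq_true, Nat.beq_eq, Nat.blt_eq] at hc
  obtain ⟨a, ha, b, hb, c, hc', e⟩ := (mem_plane_iff h j _).1 hm
  obtain rfl := vecF_injective (f4_inj h) (combP_lt j a b c) hv e
  have hg : ∀ k, k < 3 → get6 (combP j a b c) (pivP j k) =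
      if k = 0 then a else if k = 1 then b else c := by
    intro k hk
    refine f4_inj h _ _ (by rw [get6, mk4]; split <;> split <;> norm_num) ?_ ?_
    · split <;> first | assumption | (split <;> assumption)
    have hp := (hc k hk).1
    have e' := congrFun (vecF_combP h (F := F) (ω := ω) j a b c) ⟨pivP j k, hp⟩
    simp only [vecF, Pi.add_apply, Pi.smul_apply, smul_eq_mul, (hc 0 (by norm_num)).2 k hk,
      (hc 1 (by norm_num)).2 k hk, (hc 2 (by norm_num)).2 k hk] at e'
    rw [e']
    interval_cases k <;> simp [f4_zero, f4_one]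
  rw [inP, Nat.beq_eq, hg 0 (by norm_num), hg 1 (by norm_num), hg 2 (by norm_num)]
  rfl

theorem scalar_of_fix (h : Four F ω) {D : Cfsg.SU 6 F 2}
    (hD : ∀ j < 891, (plane ω j).map (linOf D) = plane ω j) : D ∈ Subgroup.center (Cfsg.SU 6 F 2) := by
  set M := ((D.1 : Matrix.SpecialLinearGroup (Fin 6) F) : Matrix (Fin 6) (Fin 6) F) with hM
  have hpt : ∀ i j : Fin 6, i ≠ j → ∀ c, c = 1 ∨ c = 2 → ∃ l : F, ∀ r,
      M r i + M r j * f4 ω c = l * (if r = i then 1 else if r = j then f4 ω c else 0) := by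
    intro i j hij c hc
    have hc' : c ∈ [1, 2] := by rcases hc with rfl | rfl <;> simp
    obtain ⟨hlt, hget⟩ := eVec_check i j hij c hc'
    obtain ⟨e, he, hm⟩ := List.any_eq_true.1 (frame_complete i j hij c hc')
    simp only [Bool.and_eq_true, Nat.beq_eq] at hm
    obtain ⟨⟨e1, e2⟩, e3⟩ := hm
    have hk := List.all_eq_true.1 frame_check e he
    simp only [Bool.and_eq_true, Nat.blt_eq, List.all_eq_true, List.mem_range, Bool.or_eq_true,
      Bool.not_eq_true', List.any_eq_true, Nat.beq_eq, e1, e2, e3] at hk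
    obtain ⟨⟨⟨⟨ha, hb⟩, hva⟩, hvb⟩, hall⟩ := hk
    have hvec : ∀ t, vecF ω (eVec i j c) t = if t = i then 1 else if t = j then f4 ω c else 0 :=
      fun t => by
        rw [vecF, hget t]
        split
        · exact f4_one
        · split
          · rfl
          · exact f4_zero
    have himg : ∀ p, p < 891 → inP p (eVec i j c) = true →
        M *ᵥ vecF ω (eVec i j c) ∈ plane ω p := fun p hp hin => by
      rw [← hD p hp]
      exact ⟨_, mem_plane_of_inP h hin, rfl⟩
    obtain ⟨a', haa, b', hbb, c', hcc, ec⟩ := (mem_plane_iff h _ _).1 (himg _ ha hva)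
    have hin : inP e.2.2.2.2 (combP e.2.2.2.1 a' b' c') = true :=
      inP_of_mem_plane h hb (combP_lt _ _ _ _) (by rw [ec]; exact himg _ hb hvb)
    rcases hall a' haa b' hbb c' hcc with hn | ⟨d, -, hd⟩
    · rw [hin] at hn; exact Bool.noConfusion hn
    refine ⟨f4 ω d, fun r => ?_⟩
    have e' := congrFun ec r
    rw [hd, vecF_scaleV h _ hlt, Pi.smul_apply, smul_eq_mul, hvec] at e'
    rw [e', Matrix.mulVec, dotProduct, ← Finset.sum_subset (Finset.subset_univ {i, j}),
      Finset.sum_pair hij, hvec, hvec, if_pos rfl, if_neg hij.symm, if_pos rfl, mul_one]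
    intro t _ ht
    simp only [Finset.mem_insert, Finset.mem_singleton, not_or] at ht
    rw [hvec, if_neg ht.1, if_neg ht.2, mul_zero]
  have hω1 : (1 : F) + ω ≠ 0 := fun e => by
    have := h.root
    rw [show ω + 1 = 0 by rw [add_comm]; exact e] at this
    rcases mul_eq_zero.1 this with hz | hz <;> (rw [hz, add_zero] at e; exact one_ne_zero e)
  have h2 : f4 ω 2 = ω := by simp [f4, Nat.testBit, Nat.shiftRight_eq_div_pow]
  have hoff : ∀ r j : Fin 6, r ≠ j → M r j = 0 := by
    intro r j hrj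
    obtain ⟨i, hi1, hi2⟩ : ∃ i : Fin 6, i ≠ r ∧ i ≠ j := by
      revert r j; decide
    obtain ⟨l, hl⟩ := hpt i j hi2 1 (Or.inl rfl)
    obtain ⟨l', hl'⟩ := hpt i j hi2 2 (Or.inr rfl)
    have a1 := hl r
    have a2 := hl' r
    rw [if_neg hi1.symm, if_neg hrj, mul_zero] at a1 a2
    rw [f4_one, mul_one] at a1
    rw [h2] at a2
    have : (1 + ω) * M r j = 0 := by
      linear_combination (norm := ring_nf) a1 + a2 - h.add_self (M r i)
    exact (mul_eq_zero.1 this).resolve_left hω1
  have hdiag : ∀ i j : Fin 6, M i i = M j j := by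
    intro i j
    by_cases hij : i = j
    · rw [hij]
    obtain ⟨l, hl⟩ := hpt i j hij 1 (Or.inl rfl)
    have a1 := hl i
    have a2 := hl j
    rw [f4_one, mul_one] at a1 a2
    rw [if_pos rfl, hoff i j hij, add_zero, mul_one] at a1
    rw [if_neg (Ne.symm hij), if_pos rfl, hoff j i (Ne.symm hij), zero_add, mul_one] at a2
    rw [a1, a2]
  have hMs : M = Matrix.scalar (Fin 6) (M 0 0) := by
    ext r c
    by_cases hrc : r = c
    · subst hrc; simp [hdiag r 0]
    · simp [hoff r c hrc, hrc]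
  refine Subgroup.mem_center_iff.2 fun B => Subtype.ext (Subtype.ext ?_)
  show _ * M = M * _
  rw [hMs]
  exact ((Matrix.scalar_commute _ (fun r' => Commute.all _ r') _).eq).symm

end CfsgLib.Spor.UnitarySix
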