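import Cfsg.Agent.Lib.Spor.UnitarySix.Objs
import Cfsg.Agent.Lib.Spor.UnitarySix.Planes

/-!
The generators move the planes as they move the labels.
-/

set_option autoImplicit false
set_option Elab.async false
set_option maxRecDepth 100000
set_option maxHeartbeats 0

namespace CfsgLib.Spor.UnitarySix

/-- each generator moves the planes as it moves the labels -/
def planesOK (p : ℕ) : Bool := (List.range 891).all fun i => (List.range 3).all fun k =>
  inP (permAt p i) (applyV (mats.getD p []) (rowP i k))

theorem planesOK_0 : planesOK 0 = true := by decide +kernel

theorem planesOK_1 : planesOK 1 = true := by decide +kernel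

theorem planesOK_2 : planesOK 2 = true := by decide +kernel

theorem planesOK_3 : planesOK 3 = true := by decide +kernel

theorem planesOK_4 : planesOK 4 = true := by decide +kernel

theorem planesOK_5 : planesOK 5 = true := by decide +kernel

theorem planesOK_6 : planesOK 6 = true := by decide +kernel

theorem planesOK_7 : planesOK 7 = true := by decide +kernel

theorem planesOK_8 : planesOK 8 = true := by decide +kernel

theorem planesOK_9 : planesOK 9 = true := by decide +kernel

theorem planesOK_10 : planesOK 10 = true := by decide +kernel

theorem planesOK_11 : planesOK 11 = true := by decide +kernel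

theorem planesOK_12 : planesOK 12 = true := by decide +kernel

theorem planesOK_13 : planesOK 13 = true := by decide +kernel

theorem planesOK_14 : planesOK 14 = true := by decide +kernel

theorem planesOK_15 : planesOK 15 = true := by decide +kernel

theorem planesOK_all : ∀ p < 16, planesOK p = true := fun p hp =>
  match p, hp with
  | 0, _ => planesOK_0
  | 1, _ => planesOK_1
  | 2, _ => planesOK_2
  | 3, _ => planesOK_3
  | 4, _ => planesOK_4
  | 5, _ => planesOK_5
  | 6, _ => planesOK_6
  | 7, _ => planesOK_7
  | 8, _ => planesOK_8
  | 9, _ => planesOK_9
  | 10, _ => planesOK_10
  | 11, _ => planesOK_11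
  | 12, _ => planesOK_12
  | 13, _ => planesOK_13
  | 14, _ => planesOK_14
  | 15, _ => planesOK_15
  | (n + 16), h => absurd h (by omega)

/-- the planes of the base labels occur once -/
theorem base_planes : ((List.range 10).all fun k => (List.range 891).all fun j =>
    Nat.beq j (baseIx.getD k 0 % 891) ||
      (List.range 3).any fun t => !inP j (rowP (baseIx.getD k 0 % 891) t)) = true := by decide +kernel

end CfsgLib.Spor.UnitarySix
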