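import Cfsg.Agent.Lib.Spor.UnitarySix.Pair
import Cfsg.Agent.Lib.Spor.UnitarySix.PlaneAct
import Cfsg.Agent.Lib.Classical.UnitarySU

/-!
The stabiliser of two short vectors with inner product `-16` is `PSU₆(2)`.
-/

set_option autoImplicit false
set_option Elab.async false
set_option maxRecDepth 100000
set_option maxHeartbeats 0

namespace CfsgLib.Spor.UnitarySix

open Cfsg
open CfsgLib.Spor
open CfsgLib.Spor.Config
open CfsgLib.Spor.ShortPairs (v0)

theorem mats_length : mats.length = 16 := by decide +kernel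

variable {F : Type} [Field F] {ω : F}

theorem eq_base_of_plane_eq (h : Four F ω) {k : ℕ} (hk : k < 10) {j : Fin 891}
    (e : plane ω j = plane ω (baseAt6 k)) : j = baseAt6 k := by
  have hc := List.all_eq_true.1 (List.all_eq_true.1 base_planes k (List.mem_range.2 hk)) j
    (List.mem_range.2 j.2)
  simp only [Bool.or_eq_true, Nat.beq_eq, List.any_eq_true, Bool.not_eq_true', List.mem_range] at hc
  rcases hc with hc | ⟨t, ht, hf⟩
  · exact Fin.ext hc
  · rw [inP_of_mem_plane h j.2 (rowP_lt _ _) (e ▸ Submodule.subset_span ⟨⟨t, ht⟩, rfl⟩)] at hf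
    exact Bool.noConfusion hf

/-- pairs acting alike on the vectors and on the planes -/
def Alike (ω : F) (x : Co0 × Cfsg.SU 6 F 2) : Prop :=
  ∀ i : Fin 891, ∃ j : Fin 891, x.1 • obj i = obj j ∧
    (plane ω i).map (linOf x.2) = plane ω j

theorem alike_one (ω : F) : Alike ω 1 := fun i =>
  ⟨i, one_smul _ _, by rw [Prod.snd_one, linOf_one, Submodule.map_id]⟩

theorem alike_mul {x y : Co0 × Cfsg.SU 6 F 2} (hx : Alike ω x) (hy : Alike ω y) :
    Alike ω (x * y) := fun i => by
  obtain ⟨j, hj1, hj2⟩ := hy i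
  obtain ⟨k, hk1, hk2⟩ := hx j
  exact ⟨k, by rw [Prod.fst_mul, mul_smul, hj1, hk1],
    by rw [Prod.snd_mul, linOf_mul, Submodule.map_comp, hj2, hk2]⟩

theorem alike_inv {x : Co0 × Cfsg.SU 6 F 2} (hx : Alike ω x) : Alike ω x⁻¹ := by
  choose f hf1 hf2 using hx
  have hinj : Function.Injective f := fun a b e => by
    refine obj_injective (MulAction.injective x.1 ?_)
    show x.1 • obj a = x.1 • obj b
    rw [hf1, hf1, e]
  intro i
  obtain ⟨a, rfl⟩ := (Finite.injective_iff_surjective.1 hinj) i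
  refine ⟨a, by rw [Prod.fst_inv, inv_smul_eq_iff, hf1], ?_⟩
  rw [Prod.snd_inv, ← hf2, ← Submodule.map_comp, ← linOf_mul, inv_mul_cancel, linOf_one,
    Submodule.map_id]

/-- the group of pairs acting alike -/
def alikeSub (ω : F) : Subgroup (Co0 × Cfsg.SU 6 F 2) where
  carrier := {x | Alike ω x}
  one_mem' := alike_one ω
  mul_mem' := alike_mul
  inv_mem' := alike_inv

theorem exists_alike (h : Four F ω) {g : Co0} (hg : g ∈ pairK) :
    ∃ A : Cfsg.SU 6 F 2, (g, A) ∈ alikeSub ω := by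
  have hle : genH ≤ (alikeSub ω).map (MonoidHom.fst Co0 (Cfsg.SU 6 F 2)) := by
    rw [genH, Subgroup.closure_le]
    intro k hk
    obtain ⟨p, hp, -, hobj⟩ := isGen_obj hk
    have hm : mats.getD p [] ∈ mats := by
      rw [List.getD_eq_getElem _ _ (by rw [mats_length]; exact hp)]
      exact List.getElem_mem _
    obtain ⟨A, hA⟩ := exists_su h hm
    refine ⟨(k, A), fun i => ?_, rfl⟩
    obtain ⟨hlt, e⟩ := hobj i
    refine ⟨⟨permAt p i, hlt⟩, e, map_plane h hm hA i.2 hlt fun t ht => ?_⟩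
    have h1 := List.all_eq_true.1 (planesOK_all p hp) i
      (List.mem_range.2 i.2)
    exact List.all_eq_true.1 h1 t (List.mem_range.2 ht)
  rw [← genH_eq.1] at hg
  obtain ⟨⟨a, A⟩, hA, rfl⟩ := hle hg
  exact ⟨A, hA⟩

/-- The stabiliser of the standard pair is `PSU₆(2)`. -/
theorem pairK_equiv [Finite F] (hF : Nat.card F = 2 ^ 2) :
    Nonempty (↥pairK ≃* Cfsg.PSU 6 F 2) := by
  obtain ⟨σ, hσ⟩ := CfsgLib.Classical.Unitary.exists_uFrob hF
  obtain ⟨ω, hω, -, -⟩ := CfsgLib.Classical.Unitary.exists_omega hF hσ rfl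
  have h2 : (2 : F) = 0 := CfsgLib.Classical.Unitary.two_eq_zero_of_q_two hF rfl
  have h : Four F ω := ⟨h2, by linear_combination hω - (ω + 1) * h2, hF⟩
  choose s hs using fun g : ↥pairK => exists_alike h g.2
  have huniq : ∀ (g : Co0) (A B : Cfsg.SU 6 F 2), (g, A) ∈ alikeSub ω → (g, B) ∈ alikeSub ω →
      A⁻¹ * B ∈ Subgroup.center (Cfsg.SU 6 F 2) := by
    intro g A B hA hB
    have hone : ((1 : Co0), A⁻¹ * B) ∈ alikeSub ω := by
      have := mul_mem (inv_mem hA) hB
      simpa using this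
    refine scalar_of_fix h fun j hj => ?_
    obtain ⟨k, hk1, hk2⟩ := hone ⟨j, hj⟩
    rw [one_smul] at hk1
    rw [← obj_injective hk1] at hk2
    exact hk2
  let φ : ↥pairK →* Cfsg.PSU 6 F 2 := MonoidHom.mk' (fun g => QuotientGroup.mk (s g)) fun g k => by
    rw [← QuotientGroup.mk_mul, QuotientGroup.eq]
    refine huniq ((g : Co0) * (k : Co0)) _ _ ?_ ?_
    · exact hs (g * k)
    · exact mul_mem (hs g) (hs k)
  have hinj : Function.Injective φ := (injective_iff_map_eq_one φ).2 fun g hg => by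
    have hc : s g ∈ Subgroup.center (Cfsg.SU 6 F 2) := (QuotientGroup.eq_one_iff _).1 hg
    refine Subtype.ext (eq_one_of_fix g.2 fun i hi => ?_)
    obtain ⟨j, hj1, hj2⟩ := hs g (baseAt6 i)
    rw [hj1]
    congr 1
    refine eq_base_of_plane_eq h hi ?_
    rw [← hj2]
    -- a central matrix is a scalar and fixes the planes
    obtain ⟨c, -, -, hc⟩ := CfsgLib.Classical.SU_center_scalar hF (by norm_num) hc
    refine Submodule.eq_of_le_of_finrank_eq ?_ ?_
    · rintro _ ⟨x, hx, rfl⟩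
      rw [linOf, Matrix.mulVecLin_apply, hc]
      simpa [Matrix.smul_mulVec] using Submodule.smul_mem _ c hx
    · rw [← (Submodule.equivMapOfInjective _ (linOf_injective_map (s g)) _).finrank_eq]
  have hcard : Nat.card ↥pairK = Nat.card (Cfsg.PSU 6 F 2) := by
    have e := CfsgLib.Classical.card_PSU_mul hF (n := 6) (by norm_num)
    rw [CfsgLib.Classical.card_GU hF 6] at e
    norm_num [Finset.prod_range_succ] at e
    rw [natCard_pairK]
    omega
  haveI : Finite (Cfsg.SU 6 F 2) := inferInstance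
  exact ⟨MulEquiv.ofBijective φ (hinj.bijective_of_nat_card_le hcard.ge)⟩

end CfsgLib.Spor.UnitarySix
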