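import Cfsg.Agent.Lib.Spor.UnitarySix.Data

/-!
The packed short vectors are short vectors of the lattice.
-/

set_option autoImplicit false
set_option Elab.async false
set_option maxRecDepth 100000
set_option maxHeartbeats 0

namespace CfsgLib.Spor.UnitarySix

open Cfsg
open CfsgLib.Spor

/-- a packed short vector -/
def objCode (i : ℕ) : ℕ := (objN >>> (192 * i)) &&& (2 ^ 192 - 1)

/-- its coordinates -/
def objL (i : ℕ) : List ℤ := (List.range 24).map fun t => ((coordN (objCode i) t : ℕ) : ℤ) - 128

/-- a permutation of the labels -/
def permAt (p i : ℕ) : ℕ := (perms.getD p 0 >>> (10 * i)) &&& 1023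

/-- the check of one vector -/
def objOK (i : ℕ) : Bool :=
  inLeechB (lOf (vOf (objL i))) && decide (sqNorm (vOf (objL i)) = 32) &&
    Nat.beq (encV (vOf (objL i))) (objCode i)

theorem objOK_0 : ((List.range 150).all fun i => objOK (0 + i)) = true := by decide +kernel

theorem objOK_1 : ((List.range 150).all fun i => objOK (150 + i)) = true := by decide +kernel

theorem objOK_2 : ((List.range 150).all fun i => objOK (300 + i)) = true := by decide +kernel

theorem objOK_3 : ((List.range 150).all fun i => objOK (450 + i)) = true := by decide +kernel

theorem objOK_4 : ((List.range 150).all fun i => objOK (600 + i)) = true := by decide +kernel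

theorem objOK_5 : ((List.range 141).all fun i => objOK (750 + i)) = true := by decide +kernel

theorem objOK_all : ∀ i < 891, objOK i = true := by
  intro i hi
  by_cases h0 : i < 150
  · have := List.all_eq_true.1 objOK_0 (i - 0) (List.mem_range.2 (by omega))
    rwa [show 0 + (i - 0) = i by omega] at this
  by_cases h1 : i < 300
  · have := List.all_eq_true.1 objOK_1 (i - 150) (List.mem_range.2 (by omega))
    rwa [show 150 + (i - 150) = i by omega] at this
  by_cases h2 : i < 450
  · have := List.all_eq_true.1 objOK_2 (i - 300) (List.mem_range.2 (by omega))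
    rwa [show 300 + (i - 300) = i by omega] at this
  by_cases h3 : i < 600
  · have := List.all_eq_true.1 objOK_3 (i - 450) (List.mem_range.2 (by omega))
    rwa [show 450 + (i - 450) = i by omega] at this
  by_cases h4 : i < 750
  · have := List.all_eq_true.1 objOK_4 (i - 600) (List.mem_range.2 (by omega))
    rwa [show 600 + (i - 600) = i by omega] at this
  have := List.all_eq_true.1 objOK_5 (i - 750) (List.mem_range.2 (by omega))
  rwa [show 750 + (i - 750) = i by omega] at this

theorem obj_increasing : ((List.range 890).all fun i => Nat.blt (objCode i) (objCode (i + 1))) = true := by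
  decide +kernel

theorem obj_spec (i : Fin 891) : inLeechB (lOf (vOf (objL i))) = true ∧
    sqNorm (vOf (objL i)) = 32 ∧ encV (vOf (objL i)) = objCode i := by
  have h := objOK_all i i.2
  simp only [objOK, Bool.and_eq_true, decide_eq_true_eq, Nat.beq_eq] at h
  exact ⟨h.1.1, h.1.2, h.2⟩

end CfsgLib.Spor.UnitarySix
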