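import Cfsg.Agent.Lib.Spor.UnitarySix.Objs
import Cfsg.Agent.Lib.Spor.ConwaySimple

/-!
The stabiliser of the standard pair of short vectors with inner product `-16`: its order, the 891
vectors, and a chain of stabilisers for the generated subgroup.
-/

set_option autoImplicit false
set_option Elab.async false
set_option maxRecDepth 100000
set_option maxHeartbeats 0

namespace CfsgLib.Spor.UnitarySix

open Cfsg
open CfsgLib.Spor
open CfsgLib.Spor.Config
open CfsgLib.Spor.ConwayArith
open CfsgLib.Spor.ShortPairs (v0)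

/-- coordinates of the standard partner -/
def w0L : List ℤ := (List.range 24).map fun i =>
  if i = 0 ∨ i = 23 then -2 else if (8391797 : ℕ).testBit i then 2 else 0

theorem w0_check : inLeechB (lOf (vOf w0L)) = true ∧ sqNorm (vOf w0L) = 32 ∧
    dotInt (v0 : GolayPt → ℤ) (vOf w0L) = -16 := by decide +kernel

/-- the standard partner -/
def w0 : leechLattice := ⟨vOf w0L, mem_leech_of_inLeechB w0_check.1⟩

theorem ncard_4600 : (cfgSet [(v0, -16)]).ncard = 4600 := by
  rw [cfgSet_eq_censusSet (C := [(McLConfig.cV0, -16)]) (by decide +kernel), Census.ncard_censusSet]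
  rw [Census.count_of_parts (a := 88) (B := [0, 0, 0, 0, 0, 800, 928, 736])
    (D := [256, 256, 256, 256, 256, 256, 256, 256]) (by decide +kernel) ?_ ?_]
  · rfl
  · refine ⟨?_, ?_, ?_, ?_, ?_, ?_, ?_, ?_, Census.Parts.nil ?_⟩ <;>
      decide +kernel
  · refine ⟨?_, ?_, ?_, ?_, ?_, ?_, ?_, ?_, Census.Parts.nil ?_⟩ <;>
      decide +kernel

/-- the stabiliser of the standard pair -/
def pairK : Subgroup Co0 := MulAction.stabilizer Co0 v0 ⊓ MulAction.stabilizer Co0 w0

theorem natCard_pairK : Nat.card ↥pairK = 9196830720 := by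
  have h := natCard_inf_stab (K := MulAction.stabilizer Co0 v0) w0
  rw [ConwaySimple.orbit_pairs (Or.inr (Or.inr rfl))
    (mem_cfgSet_one.2 ⟨w0_check.2.1, w0_check.2.2⟩), ncard_4600,
    ConwaySimple.natCard_stab32 v0 McLConfig.norm_v0] at h
  change Nat.card ↥pairK * 4600 = 42305421312000 at h
  omega

/-! ### The 891 vectors -/

/-- the 891 vectors -/
def obj (i : Fin 891) : leechLattice := ⟨vOf (objL i), mem_leech_of_inLeechB (obj_spec i).1⟩

theorem coe_obj (i : Fin 891) : (obj i : GolayPt → ℤ) = vOf (objL i) := rfl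

theorem encV_obj (i : Fin 891) : encV (obj i : GolayPt → ℤ) = objCode i := by
  rw [coe_obj]
  exact (obj_spec i).2.2

theorem norm_obj (i : Fin 891) : sqNorm (obj i : GolayPt → ℤ) = 32 := by
  rw [coe_obj]
  exact (obj_spec i).2.1

theorem lOf_obj (i : Fin 891) : lOf (obj i : GolayPt → ℤ) = lOf (vOf (objL i)) := by
  rw [coe_obj]

theorem obj_injective : Function.Injective obj := by
  have hmono : ∀ d i : ℕ, i + d < 891 → 0 < d → objCode i < objCode (i + d) := by
    intro d
    induction d with
    | zero => intro i _ h; exact absurd h (lt_irrefl 0)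
    | succ d ih =>
      intro i hi _
      have hs := List.all_eq_true.1 obj_increasing (i + d) (List.mem_range.2 (by omega))
      rw [Nat.blt_eq] at hs
      rcases Nat.eq_zero_or_pos d with rfl | hd
      · simpa using hs
      · exact lt_trans (ih i (by omega) hd) hs
  intro i j h
  have h' : vOf (objL i) = vOf (objL j) := congrArg Subtype.val h
  have e : objCode i = objCode j := by
    have hi := (obj_spec i).2.2
    have hj := (obj_spec j).2.2
    rw [h'] at hi
    exact hi.symm.trans hj
  rcases lt_trichotomy i.val j.val with hlt | heq | hlt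
  · have := hmono (j.val - i.val) i.val (by omega) (by omega)
    rw [show i.val + (j.val - i.val) = j.val by omega] at this
    omega
  · exact Fin.ext heq
  · have := hmono (i.val - j.val) j.val (by omega) (by omega)
    rw [show j.val + (i.val - j.val) = i.val by omega] at this
    omega

theorem progs_fix : fixesB progs [lOf (v0 : GolayPt → ℤ), lOf (w0 : GolayPt → ℤ)] = true := by
  decide +kernel

/-- the permutation of a program agrees with its action on the vectors -/
def permOK (p : ℕ) : Bool := (List.range 891).all fun i =>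
  Nat.blt (permAt p i) 891 && Nat.beq (runN (progs.getD p []) (objCode i)) (objCode (permAt p i))

theorem permOK_0 : ([0, 1, 2, 3].all permOK) = true := by decide +kernel
theorem permOK_1 : ([4, 5, 6, 7].all permOK) = true := by decide +kernel
theorem permOK_2 : ([8, 9, 10, 11].all permOK) = true := by decide +kernel
theorem permOK_3 : ([12, 13, 14, 15].all permOK) = true := by decide +kernel

theorem permOK_all : ∀ p < 16, permOK p = true := by
  intro p hp
  have h0 := permOK_0
  have h1 := permOK_1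
  have h2 := permOK_2
  have h3 := permOK_3
  simp only [List.all_cons, List.all_nil, Bool.and_true, Bool.and_eq_true] at h0 h1 h2 h3
  obtain ⟨a0, a1, a2, a3⟩ := h0
  obtain ⟨b0, b1, b2, b3⟩ := h1
  obtain ⟨c0, c1, c2, c3⟩ := h2
  obtain ⟨d0, d1, d2, d3⟩ := h3
  exact match p, hp with
    | 0, _ => a0 | 1, _ => a1 | 2, _ => a2 | 3, _ => a3
    | 4, _ => b0 | 5, _ => b1 | 6, _ => b2 | 7, _ => b3
    | 8, _ => c0 | 9, _ => c1 | 10, _ => c2 | 11, _ => c3
    | 12, _ => d0 | 13, _ => d1 | 14, _ => d2 | 15, _ => d3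
    | (n + 16), h => absurd h (by omega)

/-- an element acting as a listed program -/
def IsGen (g : Co0) : Prop := ∃ p < 16, ActsAs g (runP (progs.getD p []))

theorem progs_length : progs.length = 16 := by decide +kernel

theorem getD_mem {p : ℕ} (hp : p < 16) : progs.getD p [] ∈ progs := by
  rw [List.getD_eq_getElem _ _ (by rw [progs_length]; exact hp)]
  exact List.getElem_mem _

/-- the generated subgroup -/
def genH : Subgroup Co0 := Subgroup.closure {g | IsGen g}

theorem isGen_obj {g : Co0} (hg : IsGen g) :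
    ∃ p < 16, ActsAs g (runP (progs.getD p [])) ∧ ∀ i : Fin 891,
      ∃ hlt : permAt p i < 891, g • obj i = obj ⟨permAt p i, hlt⟩ := by
  obtain ⟨p, hp, hga⟩ := hg
  refine ⟨p, hp, hga, fun i => ?_⟩
  obtain ⟨hok, -, -, -⟩ := exists_gen_of_fixesB progs_fix (getD_mem hp)
  have h := List.all_eq_true.1 (permOK_all p hp) i (List.mem_range.2 i.2)
  simp only [Bool.and_eq_true, Nat.blt_eq, Nat.beq_eq] at h
  refine ⟨h.1, Subtype.ext (HSConfig.encV_inj ?_ ?_ ?_)⟩
  · exact small_of_sqNorm (le_of_eq_of_le ((coe_smul_sqNorm g _).trans (norm_obj i)) (by norm_num))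
  · exact small_of_sqNorm (le_of_eq_of_le (norm_obj _) (by norm_num))
  · rw [← runN_spec hok hga (le_of_eq_of_le (norm_obj i) (by norm_num))]
    rw [encV_obj, encV_obj]
    exact h.2

theorem genH_le : genH ≤ pairK := by
  rw [genH, Subgroup.closure_le]
  rintro g ⟨p, hp, hga⟩
  obtain ⟨-, k, hka, hfix⟩ := exists_gen_of_fixesB progs_fix (getD_mem hp)
  have e : g = k := co0_ext fun q => Subtype.ext (lOf_inj ((hga _).trans (hka _).symm))
  subst e
  exact ⟨hfix v0 (by simp), hfix w0 (by simp)⟩

/-! ### The chain -/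

/-- a label of the base -/
def baseAt6 (k : ℕ) : Fin 891 := Fin.ofNat 891 (baseIx.getD k 0)

/-- the generated elements fixing the first vectors of the base -/
def fixH : ℕ → Subgroup Co0
  | 0 => genH
  | k + 1 => fixH k ⊓ MulAction.stabilizer Co0 (obj (baseAt6 k))

/-- programs of a level -/
def levGens (k : ℕ) : List (List Stp) := (levProgs.getD k []).map fun p => progs.getD p []

/-- coordinates of the first vectors of the base -/
def baseCfg (k : ℕ) : List (List ℤ) := (List.range k).map fun j => objL (baseAt6 j)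

theorem levels_check : ((List.range 10).all fun k =>
    ((levProgs.getD k []).all fun p => Nat.blt p 16) && fixesB (levGens k) (baseCfg k) &&
      decide (lOf (vOf (objL (baseAt6 k))) = objL (baseAt6 k)) &&
      walkOK (levGens k) ((levWalk.getD k (0, 0, 0, 0)).1, (levWalk.getD k (0, 0, 0, 0)).2.1,
        (levWalk.getD k (0, 0, 0, 0)).2.2.1) (objL (baseAt6 k))
        (levWalk.getD k (0, 0, 0, 0)).2.2.2) = true := by
  decide +kernel

theorem mem_fixH {g : Co0} (hg : g ∈ genH) : ∀ {k : ℕ},
    (∀ j < k, g • obj (baseAt6 j) = obj (baseAt6 j)) → g ∈ fixH k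
  | 0, _ => hg
  | k + 1, h => ⟨mem_fixH hg fun j hj => h j (by omega), h k (Nat.lt_succ_self k)⟩

theorem step_fixH {k : ℕ} (hk : k < 10) :
    Nat.card ↥(fixH (k + 1)) * (levWalk.getD k (0, 0, 0, 0)).2.2.2 ≤ Nat.card ↥(fixH k) := by
  have h := List.all_eq_true.1 levels_check k (List.mem_range.2 hk)
  simp only [Bool.and_eq_true, decide_eq_true_eq, List.all_eq_true, Nat.blt_eq] at h
  obtain ⟨⟨⟨hlt, hfix⟩, hl⟩, hw⟩ := h
  have hg : Gens (fixH k) (levGens k) := by
    refine ⟨fun P hP => ?_⟩
    obtain ⟨hok, g, hga, hgfix⟩ := exists_gen_of_fixesB hfix hP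
    obtain ⟨p, hp, rfl⟩ := List.mem_map.1 hP
    refine ⟨hok, g, mem_fixH (Subgroup.subset_closure ⟨p, hlt p hp, hga⟩) fun j hj => hgfix _ ?_, hga⟩
    refine List.mem_map.2 ⟨j, List.mem_range.2 hj, ?_⟩
    have h' := List.all_eq_true.1 levels_check j (List.mem_range.2 (by omega))
    simp only [Bool.and_eq_true, decide_eq_true_eq] at h'
    exact ((lOf_obj _).trans h'.1.2).symm
  rw [← natCard_inf_stab (K := fixH k) (obj (baseAt6 k))]
  exact Nat.mul_le_mul_left _ (hg.le_orbit ((lOf_obj _).trans hl)
    (le_of_eq_of_le (norm_obj _) (by norm_num)) hw)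

theorem levWalk_sizes : (List.range 10).map (fun k => (levWalk.getD k (0, 0, 0, 0)).2.2.2) =
    [891, 512, 21, 5, 4, 3, 2, 2, 2, 2] := by decide +kernel

theorem le_card_genH : Nat.card ↥(fixH 10) * 9196830720 ≤ Nat.card ↥genH := by
  have h0 := step_fixH (k := 0) (by norm_num)
  have h1 := step_fixH (k := 1) (by norm_num)
  have h2 := step_fixH (k := 2) (by norm_num)
  have h3 := step_fixH (k := 3) (by norm_num)
  have h4 := step_fixH (k := 4) (by norm_num)
  have h5 := step_fixH (k := 5) (by norm_num)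
  have h6 := step_fixH (k := 6) (by norm_num)
  have h7 := step_fixH (k := 7) (by norm_num)
  have h8 := step_fixH (k := 8) (by norm_num)
  have h9 := step_fixH (k := 9) (by norm_num)
  have e := levWalk_sizes
  simp only [List.range_succ, List.range_zero, List.nil_append, List.cons_append, List.map_cons,
    List.map_nil, List.cons.injEq, and_true] at e
  obtain ⟨e0, e1, e2, e3, e4, e5, e6, e7, e8, e9⟩ := e
  rw [e0] at h0; rw [e1] at h1; rw [e2] at h2; rw [e3] at h3; rw [e4] at h4
  rw [e5] at h5; rw [e6] at h6; rw [e7] at h7; rw [e8] at h8; rw [e9] at h9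
  calc Nat.card ↥(fixH 10) * 9196830720
      = Nat.card ↥(fixH 10) * 2 * 2 * 2 * 2 * 3 * 4 * 5 * 21 * 512 * 891 := by
        generalize Nat.card ↥(fixH 10) = n
        ring
    _ ≤ Nat.card ↥(fixH 9) * 2 * 2 * 2 * 3 * 4 * 5 * 21 * 512 * 891 := by gcongr
    _ ≤ Nat.card ↥(fixH 8) * 2 * 2 * 3 * 4 * 5 * 21 * 512 * 891 := by gcongr
    _ ≤ Nat.card ↥(fixH 7) * 2 * 3 * 4 * 5 * 21 * 512 * 891 := by gcongr
    _ ≤ Nat.card ↥(fixH 6) * 3 * 4 * 5 * 21 * 512 * 891 := by gcongr
    _ ≤ Nat.card ↥(fixH 5) * 4 * 5 * 21 * 512 * 891 := by gcongr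
    _ ≤ Nat.card ↥(fixH 4) * 5 * 21 * 512 * 891 := by gcongr
    _ ≤ Nat.card ↥(fixH 3) * 21 * 512 * 891 := by gcongr
    _ ≤ Nat.card ↥(fixH 2) * 512 * 891 := by gcongr
    _ ≤ Nat.card ↥(fixH 1) * 891 := by gcongr
    _ ≤ Nat.card ↥genH := h0

theorem genH_eq : genH = pairK ∧ Nat.card ↥(fixH 10) = 1 := by
  haveI : Finite ↥pairK := Nat.finite_of_card_ne_zero (by rw [natCard_pairK]; norm_num)
  have hle := Subgroup.card_le_of_le genH_le
  have h := le_card_genH
  rw [natCard_pairK] at hle
  have hpos : 0 < Nat.card ↥(fixH 10) := by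
    haveI : Finite ↥genH := Finite.of_injective _ (Subgroup.inclusion_injective genH_le)
    have hs : ∀ k, fixH k ≤ genH := fun k => by
      induction k with
      | zero => exact le_rfl
      | succ k ih => exact inf_le_left.trans ih
    haveI : Finite ↥(fixH 10) := Finite.of_injective _ (Subgroup.inclusion_injective (hs 10))
    exact Nat.card_pos
  refine ⟨Subgroup.eq_of_le_of_card_ge genH_le (by rw [natCard_pairK]; nlinarith), by nlinarith⟩

/-- An element of the stabiliser fixing all the vectors is trivial. -/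
theorem eq_one_of_fix {g : Co0} (hg : g ∈ pairK)
    (h : ∀ k < 10, g • obj (baseAt6 k) = obj (baseAt6 k)) : g = 1 := by
  obtain ⟨he, hc⟩ := genH_eq
  exact Subgroup.mem_bot.1 (by
    rw [← (Subgroup.card_eq_one.1 hc)]
    exact mem_fixH (he.symm ▸ hg) h)

end CfsgLib.Spor.UnitarySix
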